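import Mathlib

/-! Complement of a locally idempotent localization. -/

set_option autoImplicit false

namespace IdemCompl

universe u

variable {A C : Type u} [CommRing A] [CommRing C] [Algebra A C]

/-- `y` dies in `C_f`. -/
def Dies (C : Type u) [CommRing C] [Algebra A C] (f y : A) : Prop :=
  ∃ n : ℕ, algebraMap A C (f ^ n * y) = 0

theorem local_data (f : A) (h : ∃ e : Localization.Away f, IsIdempotentElem e ∧
      IsLocalization.Away e (Localization (Algebra.algebraMapSubmonoid C (Submonoid.powers f)))) :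
    ∃ (x₀ y₀ : A) (k : ℕ), x₀ + y₀ = f ^ k ∧ (∃ n, f ^ n * (x₀ * y₀) = 0) ∧ Dies C f y₀ ∧
      (∀ y, Dies C f y → ∃ n, f ^ n * (x₀ * y) = 0) ∧
      ∀ c : C, ∃ (a : A) (q : ℕ), algebraMap A C (f ^ q) * c = algebraMap A C a := by
  set Af := Localization.Away f
  set Cf := Localization (Algebra.algebraMapSubmonoid C (Submonoid.powers f))
  obtain ⟨e, he, hloc⟩ := h
  have hzero : ∀ y : A, Dies C f y ↔ algebraMap A Cf y = 0 := fun y => by
    rw [IsScalarTower.algebraMap_apply A C Cf,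
      IsLocalization.map_eq_zero_iff (Algebra.algebraMapSubmonoid C (Submonoid.powers f)) Cf]
    constructor
    · rintro ⟨n, hn⟩
      exact ⟨⟨_, f ^ n, ⟨n, rfl⟩, rfl⟩, by rw [← map_mul]; exact hn⟩
    · rintro ⟨⟨_, _, ⟨n, rfl⟩, rfl⟩, hn⟩
      exact ⟨n, by rw [map_mul]; exact hn⟩
  have hzero' : ∀ y : A, algebraMap A Af y = 0 ↔ ∃ n, f ^ n * y = 0 := fun y => by
    rw [IsLocalization.map_eq_zero_iff (Submonoid.powers f) Af]
    constructor
    · rintro ⟨⟨_, n, rfl⟩, hn⟩; exact ⟨n, hn⟩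
    · rintro ⟨n, hn⟩; exact ⟨⟨_, n, rfl⟩, hn⟩
  have hker : ∀ z : Af, algebraMap Af Cf z = 0 → e * z = 0 := fun z hz => by
    obtain ⟨⟨_, n, rfl⟩, hn⟩ := (IsLocalization.map_eq_zero_iff (Submonoid.powers e) Cf z).1 hz
    have hn' : e ^ n * z = 0 := hn
    rcases n with _ | n
    · rw [pow_zero, one_mul] at hn'; rw [hn', mul_zero]
    · rwa [he.pow_succ_eq] at hn'
  have he1 : algebraMap Af Cf e = 1 := by
    have hu : IsUnit (algebraMap Af Cf e) :=
      IsLocalization.map_units Cf (⟨e, 1, pow_one e⟩ : Submonoid.powers e)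
    exact hu.mul_left_cancel (by rw [← map_mul, he.eq, mul_one])
  obtain ⟨⟨x₀, _, k, rfl⟩, hx₀⟩ := IsLocalization.surj (Submonoid.powers f) e
  simp only [map_pow] at hx₀
  refine ⟨x₀, f ^ k - x₀, k, add_sub_cancel _ _, ?_, ?_, fun y hy => ?_, fun c => ?_⟩
  · rw [← hzero', map_mul, map_sub, map_pow, ← hx₀]
    calc e * algebraMap A Af f ^ k * (algebraMap A Af f ^ k - e * algebraMap A Af f ^ k)
        = (e - e * e) * (algebraMap A Af f ^ k * algebraMap A Af f ^ k) := by ring
      _ = 0 := by rw [he.eq, sub_self, zero_mul]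
  · rw [hzero, IsScalarTower.algebraMap_apply A Af Cf, map_sub, map_pow, ← hx₀, map_sub, map_mul, he1,
      one_mul, sub_self]
  · rw [← hzero', map_mul, ← hx₀, mul_right_comm,
      hker _ (by rw [← IsScalarTower.algebraMap_apply A Af Cf]; exact (hzero y).1 hy), zero_mul]
  · obtain ⟨⟨z, _, n, rfl⟩, hz⟩ := IsLocalization.surj (Submonoid.powers e) (algebraMap C Cf c)
    simp only [map_pow, show algebraMap (Localization.Away f) Cf e = 1 from he1, one_pow, mul_one] at hz
    obtain ⟨⟨a, _, m, rfl⟩, ha⟩ := IsLocalization.surj (Submonoid.powers f) z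
    have h1 : algebraMap C Cf (algebraMap A C (f ^ m) * c) = algebraMap C Cf (algebraMap A C a) := by
      rw [map_mul, ← IsScalarTower.algebraMap_apply A C Cf, ← IsScalarTower.algebraMap_apply A C Cf, hz,
        IsScalarTower.algebraMap_apply A Af Cf, IsScalarTower.algebraMap_apply A Af Cf, ← map_mul,
        mul_comm, ha]
    obtain ⟨⟨_, _, ⟨j, rfl⟩, rfl⟩, hj⟩ :=
      (IsLocalization.eq_iff_exists (Algebra.algebraMapSubmonoid C (Submonoid.powers f)) Cf).1 h1
    refine ⟨f ^ j * a, j + m, ?_⟩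
    rw [pow_add, map_mul, map_mul, mul_assoc]
    exact hj

theorem exists_complement (I : Ideal A) (hI : I.FG)
    (h : ∀ f ∈ I, ∃ e : Localization.Away f, IsIdempotentElem e ∧
      IsLocalization.Away e (Localization (Algebra.algebraMapSubmonoid C (Submonoid.powers f)))) :
    ∃ K : Ideal A, ∀ f ∈ I, Function.Bijective
      (algebraMap (Localization.Away f)
        (Localization (Algebra.algebraMapSubmonoid (C × (A ⧸ K)) (Submonoid.powers f)))) := by
  classical
  obtain ⟨s, hs⟩ := hI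
  choose x₀ y₀ k hk hxy hy₀ hdie hsurj using fun f hf => local_data (C := C) f (h f hf)
  have hsI : ∀ g ∈ s, g ∈ I := fun g hg => hs ▸ Submodule.subset_span hg
  let K : Ideal A :=
  { carrier := {x | ∀ g (hg : g ∈ s), ∃ m, g ^ m * (x * y₀ g (hsI g hg)) = 0}
    zero_mem' := fun g _ => ⟨0, by simp⟩
    add_mem' := fun {a b} ha hb g hg => by
      obtain ⟨m, hm⟩ := ha g hg
      obtain ⟨n, hn⟩ := hb g hg
      exact ⟨m + n, by rw [pow_add]; linear_combination g ^ n * hm + g ^ m * hn⟩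
    smul_mem' := fun c a ha g hg => by
      obtain ⟨m, hm⟩ := ha g hg
      exact ⟨m, by rw [smul_eq_mul]; linear_combination c * hm⟩ }
  -- elements of `K` kill everything dying in `C_f`
  have hK1 : ∀ f ∈ I, ∀ x ∈ K, ∀ y, Dies C f y → ∃ m, f ^ m * (x * y) = 0 := by
    intro f hf x hx y ⟨n, hn⟩
    have hann : ∀ g ∈ s, g ∈ ((⊥ : Ideal A).colon {x * (f ^ n * y)}).radical := fun g hg => by
      obtain ⟨q, hq⟩ := hdie g (hsI g hg) (f ^ n * y) ⟨0, by rw [pow_zero, one_mul]; exact hn⟩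
      obtain ⟨m, hm⟩ := hx g hg
      refine ⟨q + m + k g (hsI g hg), ?_⟩
      rw [Submodule.mem_colon_singleton, Submodule.mem_bot, smul_eq_mul, pow_add, pow_add,
        ← hk g (hsI g hg)]
      linear_combination (g ^ m * x) * hq + (g ^ q * f ^ n * y) * hm
    obtain ⟨j, hj⟩ := (Ideal.span_le.2 hann : Ideal.span (s : Set A) ≤ _) (hs.symm ▸ hf : f ∈ Ideal.span (s : Set A))
    rw [Submodule.mem_colon_singleton, Submodule.mem_bot, smul_eq_mul] at hj
    exact ⟨j + n, by rw [pow_add]; linear_combination hj⟩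
  refine ⟨K, fun f hf => ?_⟩
  set P := C × (A ⧸ K)
  set Pf := Localization (Algebra.algebraMapSubmonoid P (Submonoid.powers f))
  -- the idempotent part lies in `K`
  have hK2 : ∃ N, f ^ N * x₀ f hf ∈ K := by
    have hg : ∀ g (hg : g ∈ s), ∃ N m, g ^ m * (f ^ N * x₀ f hf * y₀ g (hsI g hg)) = 0 := fun g hg => by
      obtain ⟨n, hn⟩ := hy₀ g (hsI g hg)
      obtain ⟨N, hN⟩ := hdie f hf (g ^ n * y₀ g (hsI g hg)) ⟨0, by rw [pow_zero, one_mul]; exact hn⟩
      exact ⟨N, n, by linear_combination hN⟩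
    choose N m hNm using hg
    refine ⟨s.attach.sup fun g => N g.1 g.2, fun g hg => ⟨m g hg, ?_⟩⟩
    obtain ⟨d, hd⟩ := Nat.exists_eq_add_of_le
      (Finset.le_sup (f := fun g : s => N g.1 g.2) (Finset.mem_attach s ⟨g, hg⟩))
    rw [hd, pow_add]
    linear_combination f ^ d * hNm g hg
  constructor
  · rw [injective_iff_map_eq_zero]
    intro z hz
    obtain ⟨⟨a, _, n, rfl⟩, hz'⟩ := IsLocalization.surj (Submonoid.powers f) z
    have h0 : algebraMap A Pf a = 0 := by
      rw [IsScalarTower.algebraMap_apply A (Localization.Away f) Pf, ← hz', map_mul, hz, zero_mul]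
    rw [IsScalarTower.algebraMap_apply A P Pf,
      IsLocalization.map_eq_zero_iff (Algebra.algebraMapSubmonoid P (Submonoid.powers f)) Pf] at h0
    obtain ⟨⟨_, _, ⟨j, rfl⟩, rfl⟩, hj⟩ := h0
    simp only [← map_mul] at hj
    have hjC : algebraMap A C (f ^ j * a) = 0 := congrArg Prod.fst hj
    have hjK : f ^ j * a ∈ K := Ideal.Quotient.eq_zero_iff_mem.1 (congrArg Prod.snd hj)
    obtain ⟨q, hq⟩ := hdie f hf a ⟨j, hjC⟩
    obtain ⟨m, hm⟩ := hK1 f hf _ hjK _ (hy₀ f hf)
    have ha : ∃ t, f ^ t * a = 0 := ⟨q + m + j + k f hf, by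
      rw [pow_add, pow_add, pow_add, ← hk f hf]
      linear_combination (f ^ m * f ^ j) * hq + f ^ q * hm⟩
    obtain ⟨t, ht⟩ := ha
    have hu : IsUnit (algebraMap A (Localization.Away f) (f ^ n)) :=
      IsLocalization.map_units _ (⟨f ^ n, n, rfl⟩ : Submonoid.powers f)
    rw [← hu.mul_left_eq_zero, hz', IsLocalization.map_eq_zero_iff (Submonoid.powers f)]
    exact ⟨⟨_, t, rfl⟩, ht⟩
  · intro w
    obtain ⟨⟨⟨c, a⟩, _, _, ⟨n, rfl⟩, rfl⟩, hw⟩ :=
      IsLocalization.surj (Algebra.algebraMapSubmonoid P (Submonoid.powers f)) w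
    obtain ⟨a, rfl⟩ := Ideal.Quotient.mk_surjective a
    obtain ⟨a', q, ha'⟩ := hsurj f hf c
    obtain ⟨nC, hnC⟩ := hy₀ f hf
    obtain ⟨N, hN⟩ := hK2
    -- the numerator
    let u := x₀ f hf * a' + y₀ f hf * (f ^ q * a)
    have e1 : algebraMap A P (f ^ (nC + N) * u) = algebraMap A P (f ^ (nC + N) * f ^ k f hf * f ^ q) *
        (c, Ideal.Quotient.mk K a) := by
      refine Prod.ext ?_ ?_
      · show algebraMap A C _ = algebraMap A C _ * c
        have h1 : algebraMap A C (f ^ nC * y₀ f hf) = 0 := hnC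
        simp only [u, ← hk f hf, pow_add, map_mul, map_add] at h1 ⊢
        linear_combination (-(algebraMap A C (f ^ nC) * algebraMap A C (f ^ N) * algebraMap A C (x₀ f hf))) * ha' +
          (algebraMap A C (f ^ N) * algebraMap A C (f ^ q) * (algebraMap A C a - c)) * h1
      · show Ideal.Quotient.mk K _ = Ideal.Quotient.mk K _ * Ideal.Quotient.mk K a
        rw [← map_mul, Ideal.Quotient.eq]
        have : f ^ (nC + N) * u - f ^ (nC + N) * f ^ k f hf * f ^ q * a =
            (f ^ nC * (a' - f ^ q * a)) * (f ^ N * x₀ f hf) := by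
          simp only [u, pow_add, ← hk f hf]
          ring
        rw [this]
        exact K.mul_mem_left _ hN
    have hu : IsUnit (algebraMap A (Localization.Away f) (f ^ (nC + N) * f ^ k f hf * f ^ q * f ^ n)) := by
      rw [← pow_add, ← pow_add, ← pow_add]
      exact IsLocalization.map_units _ (⟨f ^ _, _, rfl⟩ : Submonoid.powers f)
    obtain ⟨v, hv⟩ := hu
    refine ⟨algebraMap A _ (f ^ (nC + N) * u) * ↑v⁻¹, ?_⟩
    refine (v.isUnit.map (algebraMap (Localization.Away f) Pf)).mul_right_cancel ?_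
    rw [← map_mul, Units.inv_mul_cancel_right, ← IsScalarTower.algebraMap_apply, hv,
      ← IsScalarTower.algebraMap_apply, IsScalarTower.algebraMap_apply A P Pf,
      IsScalarTower.algebraMap_apply A P Pf, e1, map_mul _ (f ^ (nC + N) * f ^ k f hf * f ^ q) (f ^ n),
      map_mul, map_mul (algebraMap P Pf) _ (algebraMap A P (f ^ n)), ← hw]
    ring

end IdemCompl
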